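import Groth.Agent.Lib.ModSS29.DeltaPre
import Groth.Prelude.Def_EtCore
import Mathlib.Algebra.Homology.DerivedCategory.Ext.ExactSequences
import Mathlib.CategoryTheory.Sites.SheafCohomology.Basic

/-!
# Etale cohomology as a delta functor
-/

set_option autoImplicit false
set_option linter.style.haveILetI false
set_option backward.isDefEq.respectTransparency false

universe u v v' v'' w w' w''

open CategoryTheory CategoryTheory.Limits AlgebraicGeometry Opposite CategoryTheory.Abelian

namespace Groth.Agent.Lib.RpushStalk50.Delta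

instance HF_additive (X : Scheme.{u}) (n : ℕ) : (EtCoh.HF X n).Additive :=
  Functor.Additive.mk fun {_ _ f g} =>
    AddCommGrpCat.ext fun x => Sheaf.H.map_add_apply f g x

/-- `H^*` as a delta functor. -/
noncomputable def hDelta (X : Scheme.{u}) :
    _root_.DeltaF.CohDeltaFunctor (EtCoh.Ab X) AddCommGrpCat.{u + 1} ℕ where
  F := EtCoh.HF X
  additive _ := inferInstance
  δ S hS n₀ n₁ h := AddCommGrpCat.ofHom (hS.extClass.postcomp _ h)
  δ_natural {S S'} hS hS' φ n₀ n₁ h := by
    ext x
    change ((x : Ext _ _ _).comp (Ext.mk₀ φ.τ₃) (add_zero n₀)).comp hS'.extClass h =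
      ((x : Ext _ _ _).comp hS.extClass h).comp (Ext.mk₀ φ.τ₁) (add_zero n₁)
    rw [Ext.comp_assoc_of_second_deg_zero, Ext.comp_assoc_of_third_deg_zero,
      ← ShortComplex.ShortExact.extClass_naturality hS hS' φ]
  exact₂ S hS n := Ext.covariant_sequence_exact₂' _ hS n
  comp_δ S hS n₀ n₁ h := by
    ext x
    change ((x : Ext _ _ _).comp (Ext.mk₀ S.g) (add_zero n₀)).comp hS.extClass h = 0
    rw [Ext.comp_assoc_of_second_deg_zero, hS.comp_extClass, Ext.comp_zero]
  exact₃ S hS n₀ n₁ h := Ext.covariant_sequence_exact₃' _ hS n₀ n₁ h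
  δ_comp S hS n₀ n₁ h := by
    ext x
    change ((x : Ext _ _ _).comp hS.extClass h).comp (Ext.mk₀ S.f) (add_zero n₁) = 0
    rw [Ext.comp_assoc_of_third_deg_zero, hS.extClass_comp, Ext.comp_zero]
  exact₁ S hS n₀ n₁ h := Ext.covariant_sequence_exact₁' _ hS n₀ n₁ h

/-- Global sections are cohomology in degree zero. -/
noncomputable def gsecIso (X : Scheme.{u}) : EtCore.gsec X ≅ EtCoh.HF X 0 :=
  NatIso.ofComponents
    (fun F => (Sheaf.H.equiv₀ F (EtCore.topIsTerminal X)).toAddCommGrpIso.symm)
    (fun {F G} φ => by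
      ext x
      exact (Sheaf.H.equiv₀_symm_naturality (EtCore.topIsTerminal X) φ x).symm)

end Groth.Agent.Lib.RpushStalk50.Delta
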