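import Groth.Agent.Lib.EtLim50.Sections
import Groth.Agent.Lib.Cont50.Single
import Groth.Agent.Lib.EtJ.ExtZero
import Groth.Agent.Lib.EtJ.PullExact
import Groth.Agent.Lib.EtJ.Coh
import Groth.Agent.Lib.Lim.Basic
import Mathlib.CategoryTheory.Presentable.Directed

/-!
# Acyclicity of inverse images of injectives on a limit of etale schemes
-/

set_option autoImplicit false
set_option linter.style.haveILetI false
set_option backward.isDefEq.respectTransparency false

universe u

open CategoryTheory CategoryTheory.Limits AlgebraicGeometry Opposite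

namespace Groth.Agent.Lib.RpushStalk50.Stage

open Groth.Agent.Lib.EtLim50

variable {X : Scheme.{u}} {I : Type u} [SmallCategory I] [IsCofiltered I] {W : I ⥤ X.Etale}
  [∀ {i j : I} (f : i ⟶ j), IsAffineHom ((Sections.diag W).map f)] {c : Cone (Sections.diag W)}
  (q : c.pt ⟶ X) (hq : ∀ j, c.π.app j ≫ (W.obj j).hom = q)
  (hcpt : ∀ j, CompactSpace (W.obj j).left) (hqs : ∀ j, QuasiSeparatedSpace (W.obj j).left)
  (hc : IsLimit c)

include hq hcpt hqs hc in
theorem subsingleton_H (J : EtCoh.Ab X) [Injective J] (p : ℕ) :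
    Subsingleton (EtCoh.H c.pt ((EtCoh.pull q).obj J) (p + 1)) := by
  obtain ⟨α, _, _, _, Φ, hΦ⟩ := IsFiltered.exists_directed Iᵒᵖ
  let L : αᵒᵖ ⥤ I := Φ.leftOp
  haveI : L.Initial := inferInstance
  haveI : IsFiltered α := inferInstance
  haveI : IsCofiltered αᵒᵖ := inferInstance
  let D : αᵒᵖ ⥤ Scheme.{u} := L ⋙ Sections.diag W
  haveI : ∀ {a b : αᵒᵖ} (f : a ⟶ b), IsAffineHom (D.map f) :=
    fun f => inferInstanceAs (IsAffineHom ((Sections.diag W).map (L.map f)))
  haveI : ∀ a, CompactSpace ↥(D.obj a) := fun a => hcpt (L.obj a)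
  haveI : ∀ a, QuasiSeparatedSpace ↥(D.obj a) := fun a => hqs (L.obj a)
  let c' : Cone D := c.whisker L
  have hc' : IsLimit c' := (Functor.Initial.isLimitWhiskerEquiv L c).symm hc
  let i₀ : αᵒᵖ := IsCofiltered.nonempty.some
  let F₀ : EtCoh.Ab (D.obj i₀) := (EtCoh.pull (Sections.hW W (L.obj i₀))).obj J
  let e : (EtCoh.pull (c'.π.app i₀)).obj F₀ ≅ (EtCoh.pull q).obj J :=
    (Cont50.Single.β (hq (L.obj i₀))).app J
  refine subsingleton_of_forall_eq 0 fun x => ?_
  obtain ⟨j, g, y, hy⟩ := (Cont50.Single.main c' i₀ F₀ hc' (p + 1)).1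
    (Sheaf.H.map e.inv (p + 1) x)
  haveI : Etale (Sections.hW W (L.obj j)) := (W.obj (L.obj j)).prop
  haveI : Injective ((EtCoh.pull (Sections.hW W (L.obj j))).obj J) :=
    (EtCoh.pull (Sections.hW W (L.obj j))).injective_obj J
  haveI : Injective ((EtCoh.pull (D.map g)).obj F₀) :=
    Injective.of_iso ((Cont50.Single.β (Sections.map_comp_hW (L.map g))).app J).symm inferInstance
  haveI : Subsingleton (EtCoh.H (D.obj j) ((EtCoh.pull (D.map g)).obj F₀) (p + 1)) := inferInstance
  rw [Subsingleton.elim y 0, map_zero] at hy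
  have h := congrArg (Sheaf.H.map e.hom (p + 1)) hy.symm
  exact (((Sheaf.H.map_id_apply (n := p + 1) x).symm.trans
    (congrArg (fun m => Sheaf.H.map m (p + 1) x) e.inv_hom_id.symm)).trans
      ((Sheaf.H.map_comp_apply e.inv e.hom x).trans h)).trans (map_zero _)

end Groth.Agent.Lib.RpushStalk50.Stage
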