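import Groth.Agent.Lib.RpushStalk50.Ident
import Groth.Agent.Lib.RpushStalk50.Delta
import Groth.Agent.Lib.RpushStalk50.Stage
import Groth.Agent.Lib.ModSS29.DerivedNat
import Groth.Agent.Lib.EtShriek50.Exact

/-!
# Stalks of higher direct images as cohomology over the strict localization
-/

set_option autoImplicit false
set_option linter.style.haveILetI false
set_option backward.isDefEq.respectTransparency false

universe u

open CategoryTheory CategoryTheory.Limits AlgebraicGeometry Opposite

namespace Groth.Agent.Lib.RpushStalk50.Main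

open Groth.Agent.Lib.EtSite Groth.Agent.Lib.EtSite.Basic Groth.Agent.Lib.EtGerm Groth.Agent.Lib.EtGerm.Basic
open Groth.Agent.Lib.EtLim50 Groth.Agent.Lib.PBC50

variable {X S : Scheme.{u}} (f : X ⟶ S) {Ω : Type u} [Field Ω] [IsSepClosed Ω]
  (η : Spec (CommRingCat.of Ω) ⟶ S) {c : Cone (Sections.diag (Limit.W f η))} (q : c.pt ⟶ X)
  (hq : ∀ j, c.π.app j ≫ ((Limit.W f η).obj j).hom = q)

/-- The pullback to the limit, as a morphism. -/
noncomputable def resHom (F : EtCoh.Ab X) (a : Nbhds.Idx S η) :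
    F.obj.obj (op ((Limit.W f η).obj a)) ⟶
      ((EtCoh.pull q).obj F).obj.obj (op (EtCoh.top c.pt)) :=
  ((EtCoh.pullPushAdj q).unit.app F).hom.app (op ((Limit.W f η).obj a)) ≫
    ((EtCoh.pull q).obj F).obj.map (Sections.sec q hq a).op

theorem resHom_apply (F : EtCoh.Ab X) (a : Nbhds.Idx S η) (s : EtCoh.sect F ((Limit.W f η).obj a)) :
    resHom f η q hq F a s = Sections.res q hq F a s := rfl

theorem res_map (F : EtCoh.Ab X) {a b : Nbhds.Idx S η} (φ : a ⟶ b)
    (s : EtCoh.sect F ((Limit.W f η).obj b)) :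
    Sections.res q hq F a (F.obj.map ((Limit.W f η).map φ).op s) = Sections.res q hq F b s := by
  refine Sections.ext_of_germ fun Ω' _ _ ξ => ?_
  rw [Sections.germ_res, Sections.germ_res]
  refine congrArg _ ((EtGerm.Basic.germ_map F (ξ ≫ q) ((Limit.W f η).map φ) _ s).trans ?_)
  rw [Sections.map_pj]

/-- The cocone of sections on the stages. -/
noncomputable def cocone (F : EtCoh.Ab X) :
    Cocone ((Nbhds.incl S η).op ⋙ (CategoryOfElements.π (Scheme.pointSmallEtale η).fiber).op ⋙
      ((EtCoh.push f).obj F).obj) where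
  pt := ((EtCoh.pull q).obj F).obj.obj (op (EtCoh.top c.pt))
  ι.app a := resHom f η q hq F a.unop
  ι.naturality a b φ := by
    refine Eq.trans ?_ (Category.comp_id _).symm
    ext s
    exact res_map f η q hq F φ.unop s

/-- The stalk colimit over the affine neighbourhoods. -/
noncomputable def isColimit (F : EtCoh.Ab X) :
    IsColimit (((Scheme.pointSmallEtale η).presheafFiberCocone ((EtCoh.push f).obj F).obj).whisker
      (Nbhds.incl S η).op) :=
  (Functor.Final.isColimitWhiskerEquiv (Nbhds.incl S η).op _).symm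
    ((Scheme.pointSmallEtale η).isColimitPresheafFiberCocone _)

/-- The comparison in degree zero. -/
noncomputable def comp (F : EtCoh.Ab X) :
    (EtCoh.stalk η).obj ((EtCoh.push f).obj F) ⟶
      (EtCore.gsec c.pt).obj ((EtCoh.pull q).obj F) :=
  (isColimit f η F).desc (cocone f η q hq F)

theorem fac (F : EtCoh.Ab X) (a : Nbhds.Idx S η) :
    (Scheme.pointSmallEtale η).toPresheafFiber ((Nbhds.nbhd S η).obj a) a.2
      ((EtCoh.push f).obj F).obj ≫ comp f η q hq F = resHom f η q hq F a :=
  (isColimit f η F).fac (cocone f η q hq F) (op a)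

theorem comp_germ (F : EtCoh.Ab X) (a : Nbhds.Idx S η) (s : EtCoh.sect F ((Limit.W f η).obj a)) :
    comp f η q hq F (germ ((EtCoh.push f).obj F) η ((Nbhds.nbhd S η).obj a) a.2 s) =
      Sections.res q hq F a s :=
  ConcreteCategory.congr_hom (fac f η q hq F a) s

theorem natural {F G : EtCoh.Ab X} (φ : F ⟶ G) :
    (EtCoh.stalk η).map ((EtCoh.push f).map φ) ≫ comp f η q hq G =
      comp f η q hq F ≫ (EtCore.gsec c.pt).map ((EtCoh.pull q).map φ) := by
  refine (isColimit f η F).hom_ext fun a => ?_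
  ext s
  change comp f η q hq G ((EtCoh.stalk η).map ((EtCoh.push f).map φ)
      (germ ((EtCoh.push f).obj F) η ((Nbhds.nbhd S η).obj a.unop) a.unop.2 s)) =
    ((EtCoh.pull q).map φ).hom.app (op (EtCoh.top c.pt)) (comp f η q hq F
      (germ ((EtCoh.push f).obj F) η ((Nbhds.nbhd S η).obj a.unop) a.unop.2 s))
  rw [comp_germ f η q hq F a.unop s]
  refine ((congrArg (comp f η q hq G) (ConcreteCategory.congr_hom
    ((Scheme.pointSmallEtale η).toPresheafFiber_naturality ((EtCoh.push f).map φ).hom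
      ((Nbhds.nbhd S η).obj a.unop) a.unop.2) s)).trans
        (comp_germ f η q hq G a.unop (φ.hom.app (op ((Limit.W f η).obj a.unop)) s))).trans ?_
  have h1 := ConcreteCategory.congr_hom (congrArg (fun m => m.hom.app (op ((Limit.W f η).obj a.unop)))
    ((EtCoh.pullPushAdj q).unit.naturality φ)) s
  refine (congrArg (((EtCoh.pull q).obj G).obj.map (Sections.sec q hq a.unop).op) h1).trans ?_
  exact (NatTrans.naturality_apply ((EtCoh.pull q).map φ).hom (Sections.sec q hq a.unop).op _).symm

variable [∀ {i j : Nbhds.Idx S η} (φ : i ⟶ j), IsAffineHom ((Sections.diag (Limit.W f η)).map φ)]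
  (hcpt : ∀ j, CompactSpace ((Limit.W f η).obj j).left)
  (hqs : ∀ j, QuasiSeparatedSpace ((Limit.W f η).obj j).left) (hc : IsLimit c)

include hcpt hqs hc in
theorem bijective_comp (F : EtCoh.Ab X) : Function.Bijective (comp f η q hq F) := by
  refine ⟨(injective_iff_map_eq_zero (comp f η q hq F).hom).2 fun z hz => ?_, fun t => ?_⟩
  · obtain ⟨V, p, s, rfl⟩ := EtGerm.Basic.exists_germ ((EtCoh.push f).obj F) z
    obtain ⟨i, ⟨α⟩⟩ := Nbhds.exists_hom S η ⟨V, p⟩
    let s₁ : EtCoh.sect F ((Limit.W f η).obj i) := F.obj.map ((EtCoh.bc f).map α.1).op s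
    have hgerm : germ ((EtCoh.push f).obj F) η V p s =
        germ ((EtCoh.push f).obj F) η ((Nbhds.nbhd S η).obj i) i.2 s₁ :=
      (congrArg (fun r => germ ((EtCoh.push f).obj F) η V r s) α.2).symm.trans
        (EtGerm.Basic.germ_map ((EtCoh.push f).obj F) η α.1 i.2 s).symm
    rw [hgerm] at hz ⊢
    have hres : Sections.res q hq F i s₁ = Sections.res q hq F i 0 :=
      ((comp_germ f η q hq F i s₁).symm.trans hz).trans (map_zero (resHom f η q hq F i).hom).symm
    obtain ⟨k, φ, hk⟩ := Sections.exists_eq_of_res_eq q hq F hcpt hc s₁ 0 hres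
    refine ((congrArg (fun r => germ ((EtCoh.push f).obj F) η _ r s₁) φ.2).symm.trans
      (EtGerm.Basic.germ_map ((EtCoh.push f).obj F) η ((Nbhds.incl S η).map φ).1 k.2 s₁).symm).trans ?_
    refine (congrArg (germ ((EtCoh.push f).obj F) η _ k.2) (hk.trans (map_zero _))).trans (map_zero _)
  · obtain ⟨k, s, hs⟩ := Sections.exists_res_eq (q := q) (hq := hq) (F := F) (t := t) hcpt hqs hc
      IsCofiltered.nonempty.some
    exact ⟨_, (comp_germ f η q hq F k s).trans hs⟩

include hq hcpt hqs hc in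
/-- Degree zero. -/
theorem zeroIso : Nonempty (EtCoh.push f ⋙ EtCoh.stalk η ≅ EtCoh.pull q ⋙ EtCore.gsec c.pt) :=
  ⟨NatIso.ofComponents
    (fun F => @asIso _ _ _ _ (comp f η q hq F)
      ((ConcreteCategory.isIso_iff_bijective _).2 (bijective_comp f η q hq hcpt hqs hc F)))
    (fun φ => natural f η q hq φ)⟩

include hq hcpt hqs hc in
theorem nonempty_iso (n : ℕ) :
    Nonempty (EtCoh.Rpush f n ⋙ EtCoh.stalk η ≅ EtCoh.pull q ⋙ EtCoh.HF c.pt n) := by
  haveI : PreservesFiniteLimits (EtCoh.push f) :=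
    ((EtCoh.pullPushAdj f).rightAdjoint_preservesLimits :
      PreservesLimitsOfSize.{0, 0} (EtCoh.push f)).preservesFiniteLimits
  haveI : (EtCoh.push f ⋙ EtCoh.stalk η).Additive := inferInstance
  obtain ⟨Δ⟩ := RDer.Connecting.nonempty_derivedLES (EtCoh.push f ⋙ EtCoh.stalk η)
  obtain ⟨e⟩ := zeroIso f η q hq hcpt hqs hc
  haveI := comp_preservesFiniteLimits (EtCoh.push f) (EtCoh.stalk η)
  obtain ⟨i⟩ := ModSS29.DeltaPre.nonempty_iso Δ.toCohDeltaFunctor
    (ModSS29.DeltaPre.precomp (Delta.hDelta c.pt) (EtCoh.pull q))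
    (DeltaF.Universal.isEffaceable_iff.2 fun m J hJ =>
      haveI := hJ
      (EtCoh.push f ⋙ EtCoh.stalk η).isZero_rightDerived_obj_injective_succ m J)
    (DeltaF.Universal.isEffaceable_iff.2 fun m J hJ =>
      haveI := hJ
      @AddCommGrpCat.isZero_of_subsingleton _ (Stage.subsingleton_H q hq hcpt hqs hc J m))
    ((EtCoh.push f ⋙ EtCoh.stalk η).rightDerivedZeroIsoSelf ≪≫ e ≪≫
      Functor.isoWhiskerLeft (EtCoh.pull q) (Delta.gsecIso c.pt)) n
  exact ⟨(ModSS29.DerivedNat.postIso (EtCoh.push f) (EtCoh.stalk η) n).symm ≪≫ i⟩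

end Groth.Agent.Lib.RpushStalk50.Main

namespace Groth.Agent.Lib.RpushStalk50.Main

open Groth.Agent.Lib.EtLim50 Groth.Agent.Lib.PBC50

/-- The stalk of a higher direct image at a strict localization. -/
theorem strictLocalization {X S : Scheme.{u}} (f : X ⟶ S) [QuasiCompact f] [QuasiSeparated f]
    (s : S) (R : Type u) [CommRing R] [IsLocalRing R] [Algebra (S.presheaf.stalk s) R]
    [IsLocalHom (algebraMap (S.presheaf.stalk s) R)] [Hensel.IsStrictHenselization (S.presheaf.stalk s) R]
    [IsSepClosed (IsLocalRing.ResidueField R)] (n : ℕ) :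
    Nonempty (EtCoh.Rpush f n ⋙ EtCoh.stalk (Hens2.geomPt S s R) ≅
      EtCoh.pull (pullback.fst f (Hens2.specOf S s R)) ⋙ EtCoh.HF (pullback f (Hens2.specOf S s R)) n) := by
  let η := Hens2.geomPt S s R
  haveI := Ident.isIso_ι S s R
  let m : pullback f (Hens2.specOf S s R) ⟶ pullback f (Limit.σ η) :=
    pullback.map f (Hens2.specOf S s R) f (Limit.σ η) (𝟙 X) (Ident.ι S s R) (𝟙 S) (by simp)
      (by rw [Category.comp_id, Ident.ι_σ])
  haveI : IsIso m := inferInstance
  let c : Cone (Sections.diag (Limit.W f η)) := (Limit.cone f η).extend (X := pullback f (Hens2.specOf S s R)) m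
  have hc : IsLimit c := IsLimit.extendIso (s := Limit.cone f η) m (Limit.isLimitCone f η)
  have hq : ∀ j, c.π.app j ≫ ((Limit.W f η).obj j).hom = pullback.fst f (Hens2.specOf S s R) := by
    intro j
    refine (Category.assoc _ _ _).trans ((congrArg (m ≫ ·) (Limit.cone_hq f η j)).trans ?_)
    exact (pullback.lift_fst _ _ _).trans (Category.comp_id _)
  have hcpt : ∀ i, CompactSpace ((Limit.W f η).obj i).left := fun i =>
    have : IsAffine ((Nbhds.diag S η).obj i) := Nbhds.isAffine_diag S η i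
    show CompactSpace ↥(pullback (Limit.str η i) f : Scheme.{u}) from
      QuasiCompact.compactSpace_of_compactSpace (pullback.fst (Limit.str η i) f)
  have hqs : ∀ i, QuasiSeparatedSpace ((Limit.W f η).obj i).left := fun i =>
    have : IsAffine ((Nbhds.diag S η).obj i) := Nbhds.isAffine_diag S η i
    show QuasiSeparatedSpace ↥(pullback (Limit.str η i) f : Scheme.{u}) from
      quasiSeparatedSpace_of_quasiSeparated (pullback.fst (Limit.str η i) f)
  exact nonempty_iso f η (c := c) (pullback.fst f (Hens2.specOf S s R)) hq hcpt hqs hc n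

end Groth.Agent.Lib.RpushStalk50.Main
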