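import Groth.Agent.Lib.PBC50.Limit
import Groth.Agent.Lib.EtSite.StrictHens
import Groth.Agent.Lib.EtSite.StrictLocLift
import Groth.Agent.Lib.AlgSpStalk.EtLocalRing

/-!
# The strict henselization as the strictly local scheme
-/

set_option autoImplicit false
set_option backward.isDefEq.respectTransparency false
set_option linter.style.haveILetI false

universe u

open CategoryTheory CategoryTheory.Limits AlgebraicGeometry Opposite

namespace Groth.Agent.Lib.RpushStalk50.Ident

open Groth.Agent.Lib.EtSite Groth.Agent.Lib.EtSite.Basic Groth.Agent.Lib.EtLim50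
open Groth.Agent.Lib.PBC50

/-- Maps from a local scheme to an etale scheme agreeing at the closed point agree. -/
theorem eq_of_agree {T : Type u} [CommRing T] [IsLocalRing T] {U S : Scheme.{u}} (h : U ⟶ S) [Etale h]
    (f g : Spec (CommRingCat.of T) ⟶ U) (w : f ≫ h = g ≫ h) {Ω : Type u} [Field Ω]
    (e : Spec (CommRingCat.of Ω) ⟶ Spec (CommRingCat.of T)) (he : e.base default = IsLocalRing.closedPoint T)
    (we : e ≫ f = e ≫ g) : f = g := by
  let D : Spec (CommRingCat.of T) ⟶ pullback h h := pullback.lift f g w
  have hD : e ≫ D = (e ≫ f) ≫ pullback.diagonal h := by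
    apply pullback.hom_ext
    · simp [D]
    · simp [D, we]
  have htop : D ⁻¹ᵁ (pullback.diagonal h).opensRange = ⊤ := by
    refine Scheme.preimage_eq_top_of_closedPoint_mem (R := CommRingCat.of T) D ?_
    refine ⟨(e ≫ f).base default, ?_⟩
    rw [← he]
    exact congr($(hD.symm) default)
  have hr : Set.range D.base ⊆ Set.range (pullback.diagonal h).base := by
    rintro _ ⟨z, rfl⟩
    exact (show z ∈ D ⁻¹ᵁ (pullback.diagonal h).opensRange from htop ▸ trivial)
  have hl := IsOpenImmersion.lift_fac (pullback.diagonal h) D hr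
  have h1 : IsOpenImmersion.lift (pullback.diagonal h) D hr = f := by
    have h3 := hl =≫ pullback.fst h h
    rw [Category.assoc, pullback.diagonal_fst, Category.comp_id] at h3
    exact h3.trans (pullback.lift_fst _ _ _)
  have h2 : IsOpenImmersion.lift (pullback.diagonal h) D hr = g := by
    have h3 := hl =≫ pullback.snd h h
    rw [Category.assoc, pullback.diagonal_snd, Category.comp_id] at h3
    exact h3.trans (pullback.lift_snd _ _ _)
  exact h1.symm.trans h2

variable (S : Scheme.{u}) (s : S) (R : Type u) [CommRing R] [IsLocalRing R]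
  [Algebra (S.presheaf.stalk s) R] [IsLocalHom (algebraMap (S.presheaf.stalk s) R)]
  [Hensel.IsStrictHenselization (S.presheaf.stalk s) R] [IsSepClosed (IsLocalRing.ResidueField R)]

local notation "η" => Hens2.geomPt S s R

/-- The closed geometric point. -/
noncomputable abbrev cpt (R : Type u) [CommRing R] [IsLocalRing R] :
    Spec (CommRingCat.of (IsLocalRing.ResidueField R)) ⟶ Spec (CommRingCat.of R) :=
  Spec.map (CommRingCat.ofHom (IsLocalRing.residue R))

theorem cpt_base (R : Type u) [CommRing R] [IsLocalRing R] :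
    (cpt R).base default = IsLocalRing.closedPoint R := by
  rw [Subsingleton.elim (default : Spec (CommRingCat.of (IsLocalRing.ResidueField R)))
    (IsLocalRing.closedPoint _)]
  exact IsLocalRing.comap_closedPoint (IsLocalRing.residue R)

theorem pt_base : (Limit.pt η).base default = IsLocalRing.closedPoint (EtBase.etaleLocalRing η) := by
  haveI : IsLocalHom (LocalRing.ev η).hom :=
    ⟨fun z hz => LocalRing.isUnit_of_ev_ne_zero η z hz.ne_zero⟩
  rw [Subsingleton.elim (default : Spec (CommRingCat.of (IsLocalRing.ResidueField R)))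
    (IsLocalRing.closedPoint _)]
  exact IsLocalRing.comap_closedPoint (LocalRing.ev η).hom

theorem exists_lift (a : Nbhds.Idx S η) :
    ∃ r : Spec (CommRingCat.of R) ⟶ (Nbhds.diag S η).obj a,
      r ≫ Limit.str η a = Hens2.specOf S s R ∧ cpt R ≫ r = fiberHom a.2 := by
  haveI : HenselianLocalRing R := Hensel.IsStrictHenselization.henselian (S.presheaf.stalk s)
  let p : (Scheme.pointSmallEtale (cpt R)).fiber.obj
      ((EtCoh.bc (Hens2.specOf S s R)).obj ((Nbhds.nbhd S η).obj a)) :=
    mkFiber _ _ (pullback.lift (f := Limit.str η a) (g := Hens2.specOf S s R) (fiberHom a.2)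
      (cpt R) (fiberHom_comp a.2)) (pullback.lift_snd _ _ _)
  obtain ⟨t, ht⟩ := StrictHens.exists_section R _ p
  refine ⟨t.left ≫ pullback.fst (Limit.str η a) (Hens2.specOf S s R), ?_, ?_⟩
  · have h := MorphismProperty.Over.w t
    rw [Category.assoc, pullback.condition]
    exact ((Category.assoc _ _ _).symm.trans (h =≫ _)).trans (Category.id_comp _)
  · have h : cpt R ≫ t.left = fiberHom p := congrArg (fun x => fiberHom x) ht
    exact ((Category.assoc _ _ _).symm.trans (h =≫ _)).trans (pullback.lift_fst _ _ _)

/-- The lifts. -/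
noncomputable def lift (a : Nbhds.Idx S η) : Spec (CommRingCat.of R) ⟶ (Nbhds.diag S η).obj a :=
  (exists_lift S s R a).choose

/-- The cone. -/
noncomputable def cone : Cone (Nbhds.diag S η) where
  pt := Spec (CommRingCat.of R)
  π.app := lift S s R
  π.naturality a b φ := by
    refine (Category.id_comp _).trans ?_
    have : Etale (Limit.str η b) := ((Nbhds.nbhd S η).obj b).prop
    obtain ⟨ha, ha'⟩ := (exists_lift S s R a).choose_spec
    obtain ⟨hb, hb'⟩ := (exists_lift S s R b).choose_spec
    refine eq_of_agree (Limit.str η b) _ _ ?_ (cpt R) (cpt_base R) ?_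
    · refine hb.trans ((ha.symm).trans ?_)
      exact (congrArg (_ ≫ ·) (Over.w ((Nbhds.nbhd S η).map φ).hom).symm).trans
        (Category.assoc _ _ _).symm
    · refine hb'.trans ?_
      refine Eq.trans ?_ ((Category.assoc _ _ _).trans rfl)
      refine Eq.trans ?_ (ha'.symm =≫ _)
      exact (congrArg (fun x => fiberHom x) φ.2).symm

/-- The comparison map. -/
noncomputable def ι : Spec (CommRingCat.of R) ⟶ Nbhds.S S η :=
  (Nbhds.isLimitCone S η).lift (cone S s R)

theorem ι_fac (a : Nbhds.Idx S η) :
    ι S s R ≫ (Nbhds.cone S η).π.app a = lift S s R a :=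
  (Nbhds.isLimitCone S η).fac (cone S s R) a

theorem ι_σ : ι S s R ≫ Limit.σ η = Hens2.specOf S s R := by
  rw [← Limit.π_str η IsCofiltered.nonempty.some, ← Category.assoc]
  rw [ι_fac]
  exact (exists_lift S s R _).choose_spec.1

theorem cpt_ι : cpt R ≫ ι S s R = Limit.pt η := by
  refine (Nbhds.isLimitCone S η).hom_ext fun a => ?_
  refine Eq.trans ?_ (Limit.pt_π η a).symm
  refine (Category.assoc _ _ _).trans ?_
  rw [ι_fac]
  exact (exists_lift S s R a).choose_spec.2

set_option maxHeartbeats 1000000 in
theorem isIso_ι : IsIso (ι S s R) := by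
  let T := EtBase.etaleLocalRing η
  haveI : HenselianLocalRing R := Hensel.IsStrictHenselization.henselian (S.presheaf.stalk s)
  haveI : HenselianLocalRing T := (LocalRing.isStrictlyHenselianLocalRing η).1
  haveI : IsSepClosed (IsLocalRing.ResidueField T) := LocalRing.isSepClosed_residueField η
  have hs : (Limit.σ η).base (IsLocalRing.closedPoint T) = s := by
    refine (congrArg (Limit.σ η).base (pt_base S s R).symm).trans ?_
    refine Eq.trans ?_ (StrictLocLift.geomPt_apply s R default)
    exact congr($(Limit.pt_σ η) default)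
  let c : S.presheaf.stalk s ⟶ T :=
    S.presheaf.stalkSpecializes (Inseparable.of_eq hs).specializes ≫
      Scheme.stalkClosedPointTo (Limit.σ η)
  have hc : Spec.map c ≫ S.fromSpecStalk s = Limit.σ η := by
    rw [Spec.map_comp, Category.assoc, Scheme.SpecMap_stalkSpecializes_fromSpecStalk]
    exact Scheme.Spec_stalkClosedPointTo_fromSpecStalk (R := T) (Limit.σ η)
  have hev : c ≫ LocalRing.ev η = CommRingCat.ofHom ((IsLocalRing.residue R).comp
      (algebraMap (S.presheaf.stalk s) R)) := by
    apply Spec.map_injective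
    rw [← cancel_mono (S.fromSpecStalk s), Spec.map_comp, Category.assoc, hc, CommRingCat.ofHom_comp,
      Spec.map_comp, Category.assoc]
    exact Limit.pt_σ η
  haveI : IsLocalHom (LocalRing.ev η).hom :=
    ⟨fun z hz => LocalRing.isUnit_of_ev_ne_zero η z hz.ne_zero⟩
  let kT := IsLocalRing.ResidueField T
  let L := IsLocalRing.ResidueField R
  let evk : kT →+* L := IsLocalRing.ResidueField.lift (LocalRing.ev η).hom
  letI : Algebra kT L := evk.toAlgebra
  letI : Algebra (S.presheaf.stalk s) kT := ((IsLocalRing.residue T).comp c.hom).toAlgebra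
  letI : Algebra (S.presheaf.stalk s) L :=
    ((IsLocalRing.residue R).comp (algebraMap (S.presheaf.stalk s) R)).toAlgebra
  haveI : IsScalarTower (S.presheaf.stalk s) kT L := IsScalarTower.of_algebraMap_eq fun x =>
    (congrArg (fun m => m.hom x) hev).symm
  let res : R →ₐ[S.presheaf.stalk s] L := { IsLocalRing.residue R with commutes' := fun _ => rfl }
  haveI : Algebra.IsSeparable kT L := StrictLocLift.isSeparable_of_generated res fun l => by
    obtain ⟨r, rfl⟩ := Ideal.Quotient.mk_surjective l
    exact Algebra.subset_adjoin ⟨r, rfl⟩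
  let E : kT ≃+* L := RingEquiv.ofBijective evk
    ⟨evk.injective, IsSepClosed.algebraMap_surjective kT L⟩
  let ψ : R →+* kT := E.symm.toRingHom.comp (IsLocalRing.residue R)
  have hψ : ψ.comp (algebraMap (S.presheaf.stalk s) R) = (IsLocalRing.residue T).comp c.hom :=
    RingHom.ext fun x => E.injective ((E.apply_symm_apply _).trans (congrArg (fun m => m.hom x) hev).symm)
  obtain ⟨φ, ⟨hφc, hφψ⟩, -⟩ := StrictLocLift.existsUnique_hom c.hom ψ hψ
  have hφev : (LocalRing.ev η).hom.comp φ = IsLocalRing.residue R := RingHom.ext fun x =>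
    (congrArg E (RingHom.congr_fun hφψ x)).trans (E.apply_symm_apply _)
  let j : Spec T ⟶ Spec (CommRingCat.of R) := Spec.map (CommRingCat.ofHom φ)
  have hj : j ≫ Hens2.specOf S s R = Limit.σ η := by
    rw [← hc, ← Category.assoc, ← Spec.map_comp]
    exact congrArg (fun m => Spec.map m ≫ S.fromSpecStalk s) (CommRingCat.hom_ext hφc)
  have hptj : Limit.pt η ≫ j = cpt R :=
    (Spec.map_comp _ _).symm.trans (congrArg (fun m => Spec.map (CommRingCat.ofHom m)) hφev)
  refine ⟨j, ?_, ?_⟩
  · obtain ⟨g, hg⟩ := Spec.map_surjective (ι S s R ≫ j)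
    have h1 : g.hom.comp (algebraMap (S.presheaf.stalk s) R) = algebraMap (S.presheaf.stalk s) R := by
      have : CommRingCat.ofHom (algebraMap (S.presheaf.stalk s) R) ≫ g =
          CommRingCat.ofHom (algebraMap (S.presheaf.stalk s) R) := by
        apply Spec.map_injective
        rw [← cancel_mono (S.fromSpecStalk s), Spec.map_comp, Category.assoc, hg]
        exact (Category.assoc _ _ _).trans ((congrArg (_ ≫ ·) hj).trans (ι_σ S s R))
      exact congrArg CommRingCat.Hom.hom this
    have h2 : (IsLocalRing.residue R).comp g.hom = IsLocalRing.residue R := by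
      have : g ≫ CommRingCat.ofHom (IsLocalRing.residue R) = CommRingCat.ofHom (IsLocalRing.residue R) := by
        apply Spec.map_injective
        rw [Spec.map_comp, hg, ← Category.assoc]
        exact (congrArg (· ≫ j) (cpt_ι S s R)).trans hptj
      exact congrArg CommRingCat.Hom.hom this
    have h3 : g.hom = RingHom.id R :=
      (StrictLocLift.existsUnique_hom (R := R) (algebraMap (S.presheaf.stalk s) R)
        (IsLocalRing.residue R) rfl).unique ⟨h1, h2⟩ ⟨RingHom.id_comp _, RingHom.comp_id _⟩
    rw [← hg, show g = 𝟙 _ from CommRingCat.hom_ext h3, Spec.map_id]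
  · refine (Nbhds.isLimitCone S η).hom_ext fun a => ?_
    have : Etale (Limit.str η a) := ((Nbhds.nbhd S η).obj a).prop
    refine Eq.trans ?_ (Category.id_comp _).symm
    refine eq_of_agree (T := T) (Limit.str η a) _ _ ?_ (Limit.pt η) (pt_base S s R) ?_
    · rw [Category.assoc, Limit.π_str, Category.assoc, ι_σ, hj]
    · rw [← Category.assoc, ← Category.assoc, hptj, cpt_ι]

end Groth.Agent.Lib.RpushStalk50.Ident
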